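import Groth.Agent.H29Curve.BirFinite
import Groth.Agent.H29Curve.GenusPush
import Groth.Agent.H22Alg.DegBundle
import Groth.Agent.H28RR.LazMukEuler
import Groth.Agent.H22Alg.IntPush
import Groth.Agent.H22Alg.KModel
import Groth.Agent.H16Derived.KFlat.FinLocFree

/-!
# The degree of a bundle is unchanged by a birational morphism of curves
-/

set_option autoImplicit false
set_option linter.style.haveILetI false

noncomputable section

universe u

open CategoryTheory CategoryTheory.Limits AlgebraicGeometry TopologicalSpace Opposite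
open Groth.Agent Groth.Agent.H29Curve

namespace Groth.Agent.H14Deg

attribute [local instance 10000] H10Coh.hasSheafifyAb H10Coh.hasWeakSheafifyAb H10Coh.hasExtAb H10Coh.enoughInjAb

variable {X X' : Scheme.{u}} (f : X' ⟶ X) (U : X.Opens) [IsIso (f ∣_ U)]

theorem bijective_app_of_le {V : X.Opens} (hVU : V ≤ U) : Function.Bijective (f.app V) := by
  have e : U.ι ''ᵁ U.ι ⁻¹ᵁ V = V := by
    rw [Scheme.Hom.image_preimage_eq_opensRange_inf, Scheme.Opens.opensRange_ι]
    exact inf_eq_right.mpr hVU
  refine (congrArg (fun W => Function.Bijective (f.app W)) e).mp ?_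
  have h := ConcreteCategory.bijective_of_isIso ((f ∣_ U).app (U.ι ⁻¹ᵁ V))
  rw [morphismRestrict_app] at h
  refine (Function.Bijective.of_comp_iff' (ConcreteCategory.bijective_of_isIso
    (X'.presheaf.map (eqToHom (image_morphismRestrict_preimage f U (U.ι ⁻¹ᵁ V))).op)) _).1 ?_
  exact h

theorem subsingleton_stalk_kernel_unitMap {x : X} (hx : x ∈ U) :
    Subsingleton ((kernel (GenusPush.unitMap f)).presheaf.stalk x) := by
  refine H10Coh.subsingleton_stalk_kernel _ x ((injective_iff_map_eq_zero _).2 fun a ha => ?_)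
  obtain ⟨W, hxW, s, rfl⟩ := TopCat.Presheaf.exists_germ_eq (Coh.structureModule X).presheaf a
  erw [TopCat.Presheaf.stalkFunctor_map_germ_apply] at ha
  obtain ⟨V, hxV, iV, iV', hV⟩ := TopCat.Presheaf.germ_eq ((Coh.push f).obj (Coh.structureModule X')).presheaf
    x hxW hxW _ 0 (ha.trans (map_zero _).symm)
  let V' := V ⊓ U
  have hle : V' ≤ W := inf_le_left.trans iV.le
  refine Eq.trans (TopCat.Presheaf.germ_res_apply _ (homOfLE hle) x (show x ∈ V' from ⟨hxV, hx⟩) s).symm ?_
  refine Eq.trans (congrArg _ ?_) (map_zero _)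
  refine (bijective_app_of_le f U (inf_le_right : V' ≤ U)).1 (Eq.trans ?_ (map_zero _).symm)
  have h2 := congrArg (((Coh.push f).obj (Coh.structureModule X')).presheaf.map (homOfLE (inf_le_left : V' ≤ V)).op) hV
  rw [map_zero, map_zero] at h2
  refine Eq.trans ?_ h2
  rw [show iV = homOfLE iV.le from rfl, H10Coh.mres_mres]
  exact (H11Tilde.app_map_apply (GenusPush.unitMap f) hle s)

variable {k : Type u} [Field k] [X.Over (Spec (CommRingCat.of k))] [X'.Over (Spec (CommRingCat.of k))]
  [IsProper (X ↘ (Spec (CommRingCat.of k)))] [IsProper (X' ↘ (Spec (CommRingCat.of k)))]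

include k in
theorem deg_pullback (hdim : topologicalKrullDim X ≤ 1)
    (hf : f ≫ (X ↘ (Spec (CommRingCat.of k))) = X' ↘ (Spec (CommRingCat.of k)))
    (hU : Dense (U : Set X)) (hU' : Dense ((f ⁻¹ᵁ U : X'.Opens) : Set X'))
    {n : ℕ} {E : X.Modules} (hE : FlatMod.IsFinLocFreeOfRank n E) :
    Curv2.deg k X' ((Scheme.Modules.pullback f).obj E) n = Curv2.deg k X E n := by
  haveI : IsProper f := by
    haveI : IsProper (f ≫ (X ↘ Spec (CommRingCat.of k))) := hf ▸ inferInstance
    exact IsProper.of_comp f (X ↘ Spec (CommRingCat.of k))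
  haveI := BirFinite.isFinite_of_iso_dense (X ↘ Spec (CommRingCat.of k)) hdim f U hU hU'
  haveI := H28Int.isNoetherian k (X := X)
  haveI : IsLocallyNoetherian X' := LocallyOfFiniteType.isLocallyNoetherian f
  have hO' := H10Coh.isCoh_structureModule' X'
  have hO := H10Coh.isCoh_structureModule' X
  let P := (Coh.push f).obj (Coh.structureModule X')
  have hP : Coh.IsCoh P := H10Coh.isCoh_push_of_isFinite f _ hO'
  let g := GenusPush.unitMap f
  have hC : Coh.IsCoh (cokernel g) := GenusPush.isCoh_cokernel_unitMap f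
  have hK : Coh.IsCoh (kernel g) := H10Coh.isCoh_kernel g hO hP.1
  have hd : ∀ G : X.Modules, CohB1.support G ⊆ (U : Set X)ᶜ →
      topologicalKrullDim (CohB1.support G) < ((1 : ℕ) : WithBot ℕ∞) := fun G h =>
    lt_of_le_of_lt ((GenusPush.dim_mono h).trans (GenusPush.dim_compl_le_zero hdim U hU)) (by norm_num)
  let ψ := H22Alg.DegBundle.ψ k E n
  have hψ := H22Alg.DegBundle.isAddFn_ψ k hE
  have hψK : ψ (kernel g) = 0 := H22Alg.DegBundle.ψ_eq_zero k hE _ hK (hd _ fun x hx hxU =>
    hx (subsingleton_stalk_kernel_unitMap f U hxU))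
  have hψC : ψ (cokernel g) = 0 := H22Alg.DegBundle.ψ_eq_zero k hE _ hC
    (hd _ (GenusPush.support_cokernel_unitMap_subset f U))
  let π := cokernel.π g
  have hI : Coh.IsCoh (kernel π) := H10Coh.isCoh_kernel π hP hC.1
  have hS₂ : (ShortComplex.mk (kernel.ι π) π (kernel.condition π)).ShortExact :=
    { exact := ShortComplex.exact_kernel _ }
  have hS₁ : (ShortComplex.mk (kernel.ι g) (cokernel.π (kernel.ι g)) (cokernel.condition _)).ShortExact :=
    { exact := ShortComplex.exact_cokernel _ }
  let eI : cokernel (kernel.ι g) ≅ kernel π := Abelian.coimageIsoImage g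
  have h₁ := hψ.add _ hS₁ hK hO (H10Coh.isCoh_of_iso eI.symm hI)
  have h₂ := hψ.add _ hS₂ hI hP hC
  change ψ (Coh.structureModule X) = ψ (kernel g) + ψ (cokernel (kernel.ι g)) at h₁
  change ψ P = ψ (kernel π) + ψ (cokernel g) at h₂
  have hEf : FlatMod.IsFinLocFree E := H22Alg.KModel.finLocFree_of_rank hE
  have hac : ∀ G : X'.Modules, Coh.IsQCoh G → Curv2.euler k X ((Coh.push f).obj G) = Curv2.euler k X' G :=
    fun G hG => by
      haveI : G.IsQuasicoherent := hG
      exact finsum_congr fun p => by rw [H28Int.Push.finrank_HH_push k f hf]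
  have hPE : ψ P = Curv2.deg k X' ((Scheme.Modules.pullback f).obj E) n := by
    show _ - _ = _ - _
    rw [H25Euler.euler_congr (H28RR.LazMuk.projIso f hEf (Coh.structureModule X')),
      H25Euler.euler_congr ((Coh.push f).mapIso (H10Coh.Tw.leftUnitIso _)),
      hac _ (H8Props.FinLocFree.isQCoh_of_isFinLocFree _ (H16Derived.KFlat.Stalk.isFinLocFree_pullback f hEf)), hac _ hO'.1]
  have h₃ : ψ (cokernel (kernel.ι g)) = ψ (kernel π) := hψ.congr eI
  have h₄ : ψ (Coh.structureModule X) = Curv2.deg k X E n := H22Alg.DegBundle.ψ_structure k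
  omega

end Groth.Agent.H14Deg
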